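import Cfsg.Agent.Spor.DE0

set_option autoImplicit false
set_option maxRecDepth 100000000
set_option Elab.async false
noncomputable section

namespace Cfsg.Agent.Spor.LyE

def A_cm : Nat := nat_lit 0x1fc0000000000fe00000000007f00000000003f80000000001fc0000000000fe00000000007f
def A_rm : Nat := nat_lit 0x1ffffffffffff
def A_em : Nat := nat_lit 0x7f01fc07f01fc07f01fc07f01fc07f01fc07f01fc07f01fc07f01fc07f01fc07f01fc07f01fc07f01fc07f
def A_qm : Nat := nat_lit 0x1f007c01f007c01f007c01f007c01f007c01f007c01f007c01f007c01f007c01f007c01f007c01f007c01f
def A_one : Nat := nat_lit 0x1000000000000010000000000000100000000000001000000000000010000000000000100000000000001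
def A : PA := ⟨nat_lit 5, nat_lit 7, nat_lit 7, nat_lit 7, nat_lit 49, nat_lit 103, nat_lit 9, A_cm, A_rm, A_em, A_qm, A_one⟩

def e15 : Nat := nat_lit 0x3000000000000030000000000000100000000000001000000000000020000000000000100000000000002

def e16 : Nat := nat_lit 0x4020000000000810000000000000202001000000180000800000000030010000041000200000000004002

def e117 : Nat := nat_lit 0x4040000000000010000000000000408000800000001000c00000000010004000000000400000000000004

def TT : List Nat := [nat_lit 0x2060000000000830000000000000308001800000203000c00000000040008000040800300000000004001, nat_lit 0x1080000000001840000000000000308001800000203000c00000000030010000040800300000000008002, nat_lit 0x108000000000001000000000000010600080000000100100000000001000c000000000100000000000001, nat_lit 0x1020000000000010000000000000104000800000001000400000000010008000000000100000000000001, nat_lit 0x10004081060c001000c0820600001000c0010000001080020000000010000000000000104000000000001, nat_lit 0x10010201040c0010008083060000100080040000001020008000000010000000000000106000000000001, nat_lit 0x100000000000000040000100000000000001000000400000000000000000000100001000000000, nat_lit 0x400000000000000060000100000000000001000000100000000000000000000100001800000000]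

end Cfsg.Agent.Spor.LyE
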